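import Mathlib.CategoryTheory.Linear.LinearFunctor
import Mathlib.LinearAlgebra.Dual.Lemmas
import Mathlib.CategoryTheory.NatIso

/-!
# Uniqueness of Serre functors
-/

set_option autoImplicit false

universe w v u

open CategoryTheory

namespace Groth.Agent.Lib.SerreUniq

variable {k : Type w} [Field k] {T : Type u} [Category.{v} T] [Preadditive T] [Linear k T]
  [∀ X Y : T, Module.Finite k (X ⟶ Y)]

/-- A Serre pairing. -/
structure Pairing (k : Type w) [Field k] (T : Type u) [Category.{v} T] [Preadditive T] [Linear k T] where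
  /-- the functor -/
  S : T ⥤ T
  /-- the pairing -/
  c : ∀ X Y : T, (X ⟶ Y) ≃ₗ[k] Module.Dual k (Y ⟶ S.obj X)
  c₁ : ∀ (X Y Y' : T) (f : X ⟶ Y) (g : Y ⟶ Y') (h : Y' ⟶ S.obj X),
    c X Y' (f ≫ g) h = c X Y f (g ≫ h)
  c₂ : ∀ (X' X Y : T) (a : X' ⟶ X) (f : X ⟶ Y) (h : Y ⟶ S.obj X'),
    c X' Y (a ≫ f) h = c X Y f (h ≫ S.map a)

variable (P Q R : Pairing k T)

theorem sep {X Y : T} {u v : Y ⟶ P.S.obj X} (h : ∀ f : X ⟶ Y, P.c X Y f u = P.c X Y f v) : u = v := by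
  rw [← sub_eq_zero, ← Module.forall_dual_apply_eq_zero_iff k]
  intro ψ
  obtain ⟨f, rfl⟩ := (P.c X Y).surjective ψ
  rw [map_sub, h, sub_self]

theorem exists_theta {X Y : T} (h : Y ⟶ P.S.obj X) :
    ∃ u : Y ⟶ Q.S.obj X, ∀ f : X ⟶ Y, Q.c X Y f u = P.c X Y f h := by
  let L : Module.Dual k (Module.Dual k (Y ⟶ Q.S.obj X)) :=
    (Module.Dual.eval k (Y ⟶ P.S.obj X) h) ∘ₗ (P.c X Y).toLinearMap ∘ₗ (Q.c X Y).symm.toLinearMap
  refine ⟨(Module.evalEquiv k (Y ⟶ Q.S.obj X)).symm L, fun f => ?_⟩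
  rw [Module.apply_evalEquiv_symm_apply]
  simp [L]

/-- The comparison morphism. -/
noncomputable def comp (X : T) : P.S.obj X ⟶ Q.S.obj X :=
  (exists_theta P Q (X := X) (𝟙 (P.S.obj X))).choose

theorem comp_spec {X Y : T} (f : X ⟶ Y) (h : Y ⟶ P.S.obj X) :
    Q.c X Y f (h ≫ comp P Q X) = P.c X Y f h := by
  rw [← Q.c₁, comp, (exists_theta P Q (X := X) (𝟙 (P.S.obj X))).choose_spec, P.c₁, Category.comp_id]

theorem comp_unique {X : T} {u : P.S.obj X ⟶ Q.S.obj X}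
    (hu : ∀ (Y : T) (f : X ⟶ Y) (h : Y ⟶ P.S.obj X), Q.c X Y f (h ≫ u) = P.c X Y f h) :
    u = comp P Q X := by
  refine sep Q fun f => ?_
  have h1 := hu _ f (𝟙 _)
  have h2 := comp_spec P Q f (𝟙 _)
  simp only [Category.id_comp] at h1 h2
  rw [h1, h2]

theorem comp_self (X : T) : comp P P X = 𝟙 _ :=
  (comp_unique P P fun _ _ _ => by simp).symm

theorem comp_trans (X : T) : comp P Q X ≫ comp Q R X = comp P R X :=
  comp_unique P R fun Y f h => by rw [← Category.assoc, comp_spec, comp_spec]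

theorem comp_naturality {X' X : T} (a : X' ⟶ X) :
    P.S.map a ≫ comp P Q X = comp P Q X' ≫ Q.S.map a := by
  refine sep Q fun f => ?_
  rw [comp_spec, ← Q.c₂]
  have h1 := comp_spec P Q (a ≫ f) (𝟙 _)
  rw [Category.id_comp] at h1
  rw [h1, P.c₂, Category.id_comp]

/-- The comparison isomorphism. -/
noncomputable def iso : P.S ≅ Q.S :=
  NatIso.ofComponents
    (fun X => ⟨comp P Q X, comp Q P X, by rw [comp_trans, comp_self], by rw [comp_trans, comp_self]⟩)
    fun a => comp_naturality P Q a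

end Groth.Agent.Lib.SerreUniq
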